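import Groth.Agent.KosDual.Affine
import Groth.Agent.SkyHomLib.Basic
import Groth.Agent.DCohLib.SuppOpen
import Groth.Agent.DCohLib.DualBase
import Groth.Agent.TildeRpush.Main
import Groth.Agent.FerrVasc.Basic
import Groth.Agent.RegLocal.Basic
import Groth.Agent.RegIdealLib.Nested
import Groth.Agent.IntLib.Coeff
import Groth.Agent.PerfFF.Span

/-!
# Regular charts at closed points
-/

set_option autoImplicit false
set_option linter.style.haveILetI false
set_option backward.isDefEq.respectTransparency false
set_option maxHeartbeats 1000000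

universe u

open CategoryTheory CategoryTheory.Limits AlgebraicGeometry Opposite
open Groth.Agent.DCohLib Groth.Agent.PerfDual

attribute [local instance] HasDerivedCategory.standard

noncomputable section

namespace Groth.Agent.KosDual

/-- Regular parameters spread out to a basic open around a maximal ideal. -/
theorem exists_params (R : CommRingCat.{u}) [IsNoetherianRing R] (m : Ideal R) [m.IsPrime]
    [IsRegularLocalRing (Localization.AtPrime m)] (d : ℕ) (hd : ringKrullDim (Localization.AtPrime m) = d) :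
    ∃ (g : R) (fs : List (Localization.Away g)), g ∉ m ∧ fs.length = d ∧
      RingTheory.Sequence.IsWeaklyRegular (Localization.Away g) fs ∧
      Ideal.ofList fs = m.map (algebraMap R (Localization.Away g)) := by
  let A := Localization.AtPrime m
  obtain ⟨x, hx⟩ := RegLocal.exists_generators A
  choose r hr using fun i => IsLocalization.surj m.primeCompl (x i)
  let y := fun i => algebraMap R A (r i).1
  have hspan : Ideal.span (Set.range y) = IsLocalRing.maximalIdeal A := by
    refine Eq.trans ?_ hx
    refine le_antisymm (Ideal.span_le.2 ?_) (Ideal.span_le.2 ?_) <;> rintro _ ⟨i, rfl⟩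
    · show algebraMap R A (r i).1 ∈ _
      rw [← hr i]
      exact Ideal.mul_mem_right _ _ (Ideal.subset_span ⟨i, rfl⟩)
    · refine (Ideal.mul_unit_mem_iff_mem _ (IsLocalization.map_units A (r i).2)).1 ?_
      rw [hr i]
      exact Ideal.subset_span ⟨i, rfl⟩
  have hd' : ringKrullDim A = (IsLocalRing.maximalIdeal A).spanFinrank :=
    IsRegularLocalRing.spanFinrank_maximalIdeal.symm
  have hlen : (IsLocalRing.maximalIdeal A).spanFinrank = d := by exact_mod_cast hd'.symm.trans hd
  let f := List.ofFn fun i => (r i).1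
  have hf : f.map (algebraMap R A) = List.ofFn y := by rw [List.map_ofFn]; rfl
  have hreg := RegLocal.isRegular_of_generators A hd' y hspan
  obtain ⟨g, hg, hgr, hgs⟩ := FerrVasc.exists_regular_away (p := m) m le_rfl f
    (by rw [hf, RegIdealLib.ofList_ofFn, hspan, Localization.AtPrime.map_eq_maximalIdeal])
    (hf ▸ hreg.toIsWeaklyRegular)
  exact ⟨g, _, hg, by simp [f, hlen], hgr.toIsWeaklyRegular, hgs⟩

variable {X : Scheme.{u}}

/-- Restriction along an isomorphism is bijective on morphisms. -/
theorem bijective_restrictD_iso {U U' : Scheme.{u}} (e : U ≅ U') (A B : DCoh.D U') :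
    Function.Bijective (fun g : A ⟶ B => (DCoh.restrictD e.hom).map g) := by
  let E : ∀ {V W : Scheme.{u}} (a : V ≅ W), DCoh.restrictD a.hom ⋙ DCoh.restrictD a.inv ≅ DCoh.restrictD (𝟙 W) :=
    fun a => (restrictDComp a.inv a.hom).symm ≪≫ restrictDCongr a.inv_hom_id
  let n : DCoh.restrictD (𝟙 U') ≅ 𝟭 (DCoh.D U') := restrictDId _
  let n' : DCoh.restrictD (𝟙 U) ≅ 𝟭 (DCoh.D U) := restrictDId _
  let eq : DCoh.D U' ≌ DCoh.D U := CategoryTheory.Equivalence.mk (DCoh.restrictD e.hom) (DCoh.restrictD e.inv)
    (E e ≪≫ n).symm (E e.symm ≪≫ n')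
  exact ⟨eq.functor.map_injective, eq.functor.map_surjective⟩

/-- Morphisms out of an object supported in a closed subset of an open are detected on it. -/
theorem bijective_restrictD_of_support {Y : Scheme.{u}} (j : Y ⟶ X) [IsOpenImmersion j] (T : Set X) (hT : IsClosed T)
    (hTj : T ⊆ Set.range j) (S : DCoh.D X) (hS : ∀ i : ℤ, CohB1.support (DCoh.HD S i) ⊆ T) (W : DCoh.D X) :
    Function.Bijective (fun g : S ⟶ W => (DCoh.restrictD j).map g) := by
  let U := j.opensRange
  haveI := DCohMore.BC.hasRpush U.ι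
  haveI : PreservesFiniteLimits (CxOX.extZero U.ι) := preservesFiniteLimits_extZero_ι U
  obtain ⟨r⟩ := nonempty_iso_rpush_restrict U T hT hTj S hS
  obtain ⟨r'⟩ := nonempty_extZeroD_iso_rpush U T hT hTj ((DCoh.restrictD U.ι).obj S) fun i => by
    rintro _ ⟨y, hy, rfl⟩
    refine hS i fun hs => hy ?_
    let e2 := restrictHDIso U.ι S i
    exact ((stkF y).mapIso e2).toLinearEquiv.toEquiv.subsingleton_congr.2
      (((Scheme.Modules.restrictStalkNatIso U.ι y).app (DCoh.HD S i)).addCommGroupIsoToAddEquiv.toEquiv.subsingleton_congr.2 hs)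
  have h1 := bijective_restrictD_map U (r ≪≫ r'.symm) W
  let e := j.isoOpensRange
  have hj : e.hom ≫ U.ι = j := j.isoOpensRange_hom_ι
  let c := restrictDCongr hj.symm ≪≫ restrictDComp e.hom U.ι
  have : (fun g : S ⟶ W => (DCoh.restrictD j).map g) = ((c.app S).homCongr (c.app W)).symm ∘
      (fun g => (DCoh.restrictD e.hom).map g) ∘ (fun g : S ⟶ W => (DCoh.restrictD U.ι).map g) := by
    funext g
    simp only [Function.comp_apply, Iso.homCongr_symm, Iso.homCongr_apply, Iso.symm_inv, Iso.app_hom, Iso.symm_hom, Iso.app_inv]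
    exact (NatIso.naturality_2 c g).symm
  rw [this]
  exact (((c.app S).homCongr (c.app W)).symm.bijective).comp ((bijective_restrictD_iso e _ _).comp h1)

variable {R : CommRingCat.{u}}

/-- The skyscraper on an affine scheme is the module of the residue field. -/
theorem nonempty_sky_tilde (x₀ : Spec R) (hx₀ : IsClosed ({x₀} : Set (Spec R))) :
    Nonempty (tilde (ModuleCat.of R ((R : Type u) ⧸ x₀.asIdeal)) ≅ SkyHomLib.skyO (Spec R) x₀) := by
  let K := (Spec R).residueField x₀
  let i := (Spec R).fromSpecResidueField x₀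
  haveI hi : IsClosedImmersion i := isClosed_singleton_iff_isClosedImmersion.1 hx₀
  let φ : R ⟶ K := Spec.preimage i
  have hφ : Spec.map φ = i := Spec.map_preimage i
  haveI : IsClosedImmersion (Spec.map φ) := hφ.symm ▸ hi
  have hsurj : Function.Surjective φ.hom := by
    have h1 := (Spec.map φ).app_surjective (U := ⊤) (isAffineOpen_top _)
    intro k
    obtain ⟨r, hr⟩ := h1 ((Scheme.ΓSpecIso K).inv k)
    refine ⟨(Scheme.ΓSpecIso R).hom r, ?_⟩
    have h2 := congr($(Scheme.ΓSpecIso_naturality φ) r)
    simp only [CommRingCat.comp_apply] at h2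
    rw [← h2]
    refine (congrArg (Scheme.ΓSpecIso K).hom hr).trans ?_
    exact (Scheme.ΓSpecIso K).inv_hom_id_apply k
  have hker : RingHom.ker φ.hom = x₀.asIdeal := by
    haveI : IsDomain K := (Field.toIsField (K : Type u)).isDomain
    let z : Spec K := ⟨⊥, Ideal.isPrime_bot⟩
    have : Spec.map φ z = x₀ := by rw [hφ]; exact Scheme.fromSpecResidueField_apply x₀ z
    exact congrArg PrimeSpectrum.asIdeal this
  let e1 : (tilde.functor (CommRingCat.of K)).obj (ModuleCat.of K K) ≅ Coh.structureModule (Spec K) := tildeSelf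
  let e2 := (TildeRpush.tildePushIso (A := R) (B := K) φ.hom).app (ModuleCat.of K K)
  have e3 : ((R : Type u) ⧸ x₀.asIdeal) ≃ₗ[R] (ModuleCat.restrictScalars φ.hom).obj (ModuleCat.of K K) := by
    refine LinearEquiv.ofBijective
      ({ toFun := fun q => (Ideal.Quotient.lift x₀.asIdeal φ.hom (fun a ha => by rwa [← hker] at ha) q : K)
         map_add' := fun a b => map_add _ a b
         map_smul' := fun a q => ?_ } :
        ((R : Type u) ⧸ x₀.asIdeal) →ₗ[R] (ModuleCat.restrictScalars φ.hom).obj (ModuleCat.of K K)) ⟨?_, ?_⟩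
    · obtain ⟨b, rfl⟩ := Ideal.Quotient.mk_surjective q
      exact map_mul φ.hom a b
    · intro a b hab
      obtain ⟨a, rfl⟩ := Ideal.Quotient.mk_surjective a
      obtain ⟨b, rfl⟩ := Ideal.Quotient.mk_surjective b
      rw [Ideal.Quotient.eq, ← hker, RingHom.mem_ker, map_sub, sub_eq_zero]
      exact hab
    · intro c
      obtain ⟨a, rfl⟩ := hsurj c
      exact ⟨Ideal.Quotient.mk _ a, rfl⟩
  exact ⟨(tilde.functor R).mapIso e3.toModuleIso ≪≫ e2.symm ≪≫
    (Scheme.Modules.pushforward (Spec.map φ)).mapIso e1 ≪≫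
    (Scheme.Modules.pushforwardCongr hφ).app _⟩

/-- The structure sheaf pushes forward to itself along the spectrum of an isomorphism. -/
theorem nonempty_push_specMap {L K : CommRingCat.{u}} (f : L ⟶ K) (hfb : Function.Bijective f.hom) :
    Nonempty ((Scheme.Modules.pushforward (Spec.map f)).obj (Coh.structureModule (Spec K)) ≅
      Coh.structureModule (Spec L)) := by
  let e3 : (ModuleCat.restrictScalars f.hom).obj (ModuleCat.of K K) ≅ ModuleCat.of L L :=
    LinearEquiv.toModuleIso (LinearEquiv.ofBijective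
      ({ toFun := fun l => f.hom l, map_add' := map_add f.hom, map_smul' := fun a b => map_mul f.hom a b } :
        (L : Type u) →ₗ[L] (ModuleCat.restrictScalars f.hom).obj (ModuleCat.of K K)) hfb).symm
  exact ⟨(Scheme.Modules.pushforward (Spec.map f)).mapIso (tildeSelf (R := CommRingCat.of K)).symm ≪≫
      (TildeRpush.tildePushIso (A := L) (B := K) f.hom).app (ModuleCat.of K K) ≪≫
        (tilde.functor L).mapIso e3 ≪≫ tildeSelf (R := CommRingCat.of L)⟩

/-- A pushforward factors through an open immersion. -/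
theorem nonempty_restrict_push {A B Y X' : Scheme.{u}} (s : A ⟶ B) (i : A ⟶ Y) (j : Y ⟶ X') [IsOpenImmersion j]
    (k : B ⟶ X') (h : s ≫ k = i ≫ j) (M : A.Modules) (N : B.Modules)
    (e : (Scheme.Modules.pushforward s).obj M ≅ N) :
    Nonempty ((Scheme.Modules.restrictFunctor j).obj ((Scheme.Modules.pushforward k).obj N) ≅
      (Scheme.Modules.pushforward i).obj M) := by
  let t : (Scheme.Modules.pushforward k).obj N ≅
      (Scheme.Modules.pushforward j).obj ((Scheme.Modules.pushforward i).obj M) :=
    (Scheme.Modules.pushforward k).mapIso e.symm ≪≫ (Scheme.Modules.pushforwardComp s k).app M ≪≫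
      (Scheme.Modules.pushforwardCongr h).app M ≪≫ ((Scheme.Modules.pushforwardComp i j).app M).symm
  exact ⟨(Scheme.Modules.restrictFunctor j).mapIso t ≪≫
    (Scheme.Modules.restrictFunctorAdjCounitIso j).app ((Scheme.Modules.pushforward i).obj M)⟩

/-- Restriction of a skyscraper to an open neighbourhood. -/
theorem nonempty_restrict_sky {Y : Scheme.{u}} (j : Y ⟶ X) [IsOpenImmersion j] (x₀ : Y) :
    Nonempty ((Scheme.Modules.restrictFunctor j).obj (SkyHomLib.skyO X (j x₀)) ≅ SkyHomLib.skyO Y x₀) := by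
  obtain ⟨e⟩ := nonempty_push_specMap (j.residueFieldMap x₀)
    (ConcreteCategory.bijective_of_isIso (j.residueFieldMap x₀))
  exact nonempty_restrict_push _ _ j _ (j.SpecMap_residueFieldMap_fromSpecResidueField x₀) _ _ e

/-- A regular chart at a closed point. -/
theorem exists_chart [IsLocallyNoetherian X] (hreg : Models.IsRegularScheme X) (x : X)
    (hx : IsClosed ({x} : Set X)) (d : ℕ) (hd : ringKrullDim (X.presheaf.stalk x) = d) :
    ∃ (R : CommRingCat.{u}) (j : Spec R ⟶ X) (_ : IsOpenImmersion j) (x₀ : Spec R),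
      IsNoetherianRing R ∧ j x₀ = x ∧ IsClosed ({x₀} : Set (Spec R)) ∧
      IsKos R d (ModuleCat.of R ((R : Type u) ⧸ x₀.asIdeal)) := by
  obtain ⟨U, hU, hxU, -⟩ := exists_isAffineOpen_mem_and_subset (U := (⊤ : X.Opens)) (x := x) trivial
  let R := Γ(X, U)
  haveI : IsNoetherianRing R := IsLocallyNoetherian.component_noetherian ⟨U, hU⟩
  let p := hU.primeIdealOf ⟨x, hxU⟩
  letI : Algebra R (X.presheaf.stalk x) := TopCat.Presheaf.algebra_section_stalk X.presheaf ⟨x, hxU⟩
  haveI := hU.isLocalization_stalk ⟨x, hxU⟩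
  let el := IsLocalization.algEquiv p.asIdeal.primeCompl (X.presheaf.stalk x) (Localization.AtPrime p.asIdeal)
  haveI : IsRegularLocalRing (X.presheaf.stalk x) := hreg x
  haveI : IsRegularLocalRing (Localization.AtPrime p.asIdeal) := IsRegularLocalRing.of_ringEquiv el.toRingEquiv
  obtain ⟨g, fs, hg, hlen, hfs, hspan⟩ := exists_params R p.asIdeal d
    (by rw [← hd]; exact ringKrullDim_eq_of_ringEquiv el.toRingEquiv.symm)
  let R' := CommRingCat.of (Localization.Away g)
  let a : R ⟶ R' := CommRingCat.ofHom (algebraMap R (Localization.Away g))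
  haveI : IsOpenImmersion (Spec.map a) := IsOpenImmersion.of_isLocalization g
  let j : Spec R' ⟶ X := Spec.map a ≫ hU.fromSpec
  have hdisj : Disjoint ((Submonoid.powers g : Submonoid R) : Set R) (p.asIdeal : Set R) :=
    Set.disjoint_left.2 fun z ⟨n, hn⟩ hz => hg (p.isPrime.mem_of_pow_mem n ((show g ^ n = z from hn).symm ▸ hz))
  let x₀ : Spec R' := ⟨p.asIdeal.map (algebraMap R (Localization.Away g)),
    IsLocalization.isPrime_of_isPrime_disjoint (Submonoid.powers g) _ _ p.isPrime hdisj⟩
  have hjx : j x₀ = x := by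
    have h1 : Spec.map a x₀ = p := PrimeSpectrum.ext
      (IsLocalization.under_map_of_isPrime_disjoint (Submonoid.powers g) _ p.isPrime hdisj)
    show hU.fromSpec (Spec.map a x₀) = x
    rw [h1]
    exact hU.fromSpec_primeIdealOf ⟨x, hxU⟩
  have hx₀ : IsClosed ({x₀} : Set (Spec R')) := by
    have : ({x₀} : Set (Spec R')) = j ⁻¹' {x} :=
      Set.ext fun z => ⟨fun h => h ▸ hjx, fun h => j.isOpenEmbedding.injective (h.trans hjx.symm)⟩
    rw [this]
    exact hx.preimage j.continuous
  haveI : IsNoetherianRing (Localization.Away g) := IsLocalization.isNoetherianRing (Submonoid.powers g) _ inferInstance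
  refine ⟨R', j, inferInstance, x₀, inferInstanceAs (IsNoetherianRing (Localization.Away g)), hjx, hx₀, ?_⟩
  have h := isKos_ofList (R := R') fs 0 _ isKos_self hfs
  rw [Nat.zero_add, hlen] at h
  refine isKos_iso (LinearEquiv.toModuleIso (Submodule.quotEquivOfEq _ _ ?_)) h
  rw [smul_eq_mul, Ideal.mul_top, hspan]

end Groth.Agent.KosDual
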