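import Groth.Agent.PerfDual.Tri
import Groth.Agent.DCohLib.TensorLinv
import Groth.Agent.TildeD.Main
import Groth.Agent.TildeD.Exact
import Groth.Agent.BCLib.TensorFun
import Groth.Agent.DCohMore.ProjUnit

/-!
# Duals of quotients by regular sequences on affine schemes
-/

set_option autoImplicit false
set_option linter.style.haveILetI false
set_option backward.isDefEq.respectTransparency false
set_option maxHeartbeats 1000000

universe u

open CategoryTheory CategoryTheory.Limits CategoryTheory.Pretriangulated AlgebraicGeometry Opposite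
open Groth.Agent.DCohLib Groth.Agent.PerfDual

attribute [local instance] HasDerivedCategory.standard

noncomputable section

namespace Groth.Agent.KosDual

variable (R : CommRingCat.{u})

/-- A module in degree zero on an affine scheme. -/
abbrev T₀ (M : ModuleCat.{u} R) : DCoh.D (Spec R) := DCoh.inD (Spec R) (tilde M)

/-- The dual of the module is its shift by `-d`, and it has cohomological dimension at most `d`. -/
structure IsKos (d : ℕ) (M : ModuleCat.{u} R) : Prop where
  dual : Nonempty ((Dv (Spec R)).obj (op (T₀ R M)) ≅ (T₀ R M)⟦-(d : ℤ)⟧)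
  vanish : ∀ (A : DCoh.D (Spec R)), DCoh.IsQCohD A → A.IsLE 0 → ∀ i : ℤ, (d : ℤ) < i →
    ∀ φ : T₀ R M ⟶ A⟦i⟧, φ = 0

variable {R}

theorem isKos_iso {d : ℕ} {M N : ModuleCat.{u} R} (e : M ≅ N) (h : IsKos R d M) : IsKos R d N := by
  let e' : T₀ R M ≅ T₀ R N := (DerivedCategory.singleFunctor (Spec R).Modules 0).mapIso ((tilde.functor R).mapIso e)
  obtain ⟨v⟩ := h.dual
  refine ⟨⟨(Dv (Spec R)).mapIso e'.op ≪≫ v ≪≫ (shiftFunctor (DCoh.D (Spec R)) (-(d : ℤ))).mapIso e'⟩,
    fun A hA hA' i hi φ => ?_⟩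
  rw [← cancel_epi e'.hom, comp_zero]
  exact h.vanish A hA hA' i hi _

theorem isKos_self : IsKos R 0 (ModuleCat.of R R) := by
  let Y := Spec R
  let e : T₀ R (ModuleCat.of R R) ≅ DerivedCategory.Q.obj (unitCx Y) :=
    (DerivedCategory.singleFunctor Y.Modules 0).mapIso (tildeSelf (R := R)) ≪≫ unitDIso
  refine ⟨?_, fun A hA hA' i hi φ => ?_⟩
  · haveI := hasLTensorCx (unitCx Y)
    haveI := hasRSheafHom_of_isKFlat (unitCx Y) (isKFlat_unitCx (X := Y))
    obtain ⟨r⟩ := nonempty_rSheafHom_hCx (unitCx Y) (isKFlat_unitCx (X := Y)) (Jc Y)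
    haveI : IsIso (DerivedCategory.Q.map (ηc Y)) :=
      (DerivedCategory.isIso_Q_map_iff_quasiIso (C := Y.Modules) _).2 (quasiIso_ηc Y)
    let u := (Adjunction.rightAdjointUniq ((DCoh.RSheafHomAdj (unitCx Y)).ofNatIsoLeft lTensorUnitIso) Adjunction.id).app
      (DerivedCategory.Q.obj (Jc Y))
    exact ⟨(Dv Y).mapIso e.symm.op ≪≫ dvObjIso (isKFlat_unitCx (X := Y)) ≪≫ r ≪≫ u ≪≫
      (asIso (DerivedCategory.Q.map (ηc Y))).symm ≪≫ e.symm ≪≫
      ((shiftFunctorZero' (DCoh.D Y) (-((0 : ℕ) : ℤ)) (by simp) : shiftFunctor (DCoh.D Y) (-((0 : ℕ) : ℤ)) ≅ 𝟭 _).app _).symm⟩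
  · haveI := hA'
    have hW : DCoh.IsQCohD (A⟦i⟧) := DCohMore.isQCohD_shift' hA i
    haveI : (A⟦i⟧).IsLE (-i) := DCohMore.isLE_shift' A 0 i (-i) (by omega)
    have hz : IsZero (DCoh.HD (A⟦i⟧) 0) := DerivedCategory.isZero_of_isLE _ (-i) 0 (by omega)
    exact (TildeD.cl_bijective_qcoh R 0 _ hW).injective (hz.eq_of_tgt _ _)

section Step

attribute [local instance] TildeD.preservesFiniteLimits_tilde

theorem isKos_step {d : ℕ} {M : ModuleCat.{u} R} (h : IsKos R d M) {f : R} (hf : IsSMulRegular M f) :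
    IsKos R (d + 1) (ModuleCat.of R (QuotSMulTop f M)) := by
  let Y := Spec R
  letI : Y.Over (Spec (CommRingCat.of R)) := ⟨𝟙 _⟩
  let g : M ⟶ ModuleCat.of R (QuotSMulTop f M) := ModuleCat.ofHom (Submodule.mkQ _)
  have hfg : (f • 𝟙 M) ≫ g = 0 := ModuleCat.hom_ext (LinearMap.ext fun m =>
    (Submodule.Quotient.mk_eq_zero _).2 (Submodule.smul_mem_pointwise_smul m f ⊤ trivial))
  let S := ShortComplex.mk (f • 𝟙 M) g hfg
  have hS : S.ShortExact := by
    haveI : Mono S.f := (ModuleCat.mono_iff_injective _).2 hf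
    haveI : Epi S.g := (ModuleCat.epi_iff_surjective _).2 (Submodule.mkQ_surjective _)
    refine { exact := ?_ }
    rw [ShortComplex.moduleCat_exact_iff]
    intro m hm
    obtain ⟨m', -, hm'⟩ := (Submodule.mem_smul_pointwise_iff_exists _ _ _).1 ((Submodule.Quotient.mk_eq_zero _).1 hm)
    exact ⟨m', hm'⟩
  haveI : (tilde.functor R).Additive := ⟨fun {M N f g} => tilde.map_add f g⟩
  haveI : PreservesColimitsOfSize.{u, u} (tilde.functor R) := tilde.adjunction.leftAdjoint_preservesColimits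
  haveI : PreservesColimitsOfSize.{0, 0} (tilde.functor R) := preservesColimitsOfSize_shrink _
  haveI : PreservesFiniteColimits (tilde.functor R) := PreservesColimitsOfSize.preservesFiniteColimits _
  have hS' := hS.map_of_exact (tilde.functor R)
  let T := hS'.singleTriangle
  have hT : T ∈ distTriang _ := hS'.singleTriangle_distinguished
  let A₀ := T₀ R M
  let B₀ := T₀ R (ModuleCat.of R (QuotSMulTop f M))
  have hsm : T.mor₁ = (f : R) • 𝟙 A₀ := by
    show (DerivedCategory.singleFunctor Y.Modules 0).map (tilde.map (f • 𝟙 M)) = _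
    rw [BCLib.tilde_map_smul, show Formal.smulModΓ (tilde M) ((Scheme.ΓSpecIso R).inv f) =
      Formal.smulMod R (X := Y) (tilde M) f from rfl, ← KLin.smul_id, Functor.map_smul,
      CategoryTheory.Functor.map_id]
  obtain ⟨v⟩ := h.dual
  refine ⟨?_, fun A hA hA' i hi φ => ?_⟩
  · obtain ⟨z, hz⟩ := exists_dual_triangle T hT
    let T' := (Triangle.mk ((Dv Y).map T.mor₂.op) ((Dv Y).map T.mor₁.op) z).rotate
    have hT' : T' ∈ distTriang _ := rot_of_distTriang _ hz
    let n : ℤ := -(d : ℤ)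
    let T'' := (Triangle.shiftFunctor (DCoh.D Y) n).obj T
    have hT'' : T'' ∈ distTriang _ := Triangle.shift_distinguished _ hT n
    have hm' : T'.mor₁ = (f : R) • 𝟙 ((Dv Y).obj (op A₀)) := by
      show (Dv Y).map T.mor₁.op = _
      rw [hsm]
      exact Dv_map_smul_id _ _
    have hm'' : T''.mor₁ = n.negOnePow • ((f : R) • 𝟙 (A₀⟦n⟧)) := by
      show n.negOnePow • (shiftFunctor (DCoh.D Y) n).map T.mor₁ = _
      rw [hsm, Functor.map_smul]
      erw [CategoryTheory.Functor.map_id]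
      rfl
    let v₂ : (Dv Y).obj (op A₀) ≅ A₀⟦n⟧ :=
      { hom := n.negOnePow • v.hom
        inv := n.negOnePow • v.inv
        hom_inv_id := by
          rw [Linear.units_smul_comp, Linear.comp_units_smul, smul_smul, Int.units_mul_self, one_smul, v.hom_inv_id]
        inv_hom_id := by
          rw [Linear.units_smul_comp, Linear.comp_units_smul, smul_smul, Int.units_mul_self, one_smul, v.inv_hom_id] }
    have hc : T'.mor₁ ≫ v₂.hom = v.hom ≫ T''.mor₁ := by
      rw [hm', hm'']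
      show _ ≫ (n.negOnePow • v.hom) = v.hom ≫ (n.negOnePow • (f : R) • 𝟙 _)
      rw [Linear.comp_units_smul, Linear.comp_units_smul, Linear.smul_comp, Linear.comp_smul]
      erw [Category.id_comp, Category.comp_id]
    let e := isoTriangleOfIso₁₂ T' T'' hT' hT'' v v₂ hc
    let e₃ : ((Dv Y).obj (op B₀))⟦(1 : ℤ)⟧ ≅ B₀⟦n⟧ := Triangle.π₃.mapIso e
    exact ⟨((shiftFunctorCompIsoId (DCoh.D Y) (1 : ℤ) (-1) (by omega)).app _).symm ≪≫
      (shiftFunctor (DCoh.D Y) (-1 : ℤ)).mapIso e₃ ≪≫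
      ((shiftFunctorAdd' (DCoh.D Y) n (-1) (-((d + 1 : ℕ) : ℤ)) (by simp [n]; omega)).app B₀).symm⟩
  · have h2 : T.mor₂ ≫ φ = 0 := h.vanish A hA hA' i (by omega) _
    obtain ⟨g', rfl⟩ := Triangle.yoneda_exact₃ T hT φ h2
    let e := (shiftFunctorAdd' (DCoh.D Y) (i - 1) 1 i (by omega)).app A
    obtain ⟨g'', hg''⟩ := (shiftFunctor (DCoh.D Y) (1 : ℤ)).map_surjective (g' ≫ e.hom)
    rw [h.vanish A hA hA' (i - 1) (by omega) g'', Functor.map_zero] at hg''
    rw [(cancel_mono e.hom).1 (hg''.symm.trans zero_comp.symm), comp_zero]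

end Step

/-- Quotients by weakly regular sequences. -/
theorem isKos_ofList : ∀ (fs : List R) (d : ℕ) (M : ModuleCat.{u} R), IsKos R d M →
    RingTheory.Sequence.IsWeaklyRegular M fs →
    IsKos R (d + fs.length) (ModuleCat.of R (M ⧸ (Ideal.ofList fs • (⊤ : Submodule R M))))
  | [], d, M, h, _ => isKos_iso (LinearEquiv.toModuleIso ((Submodule.quotEquivOfEqBot _ (by
      rw [Ideal.ofList_nil, Submodule.bot_smul])).symm)) h
  | f :: fs, d, M, h, hr => by
      obtain ⟨hf, hfs⟩ := (RingTheory.Sequence.isWeaklyRegular_cons_iff M f fs).1 hr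
      have := isKos_ofList fs (d + 1) _ (isKos_step h hf) hfs
      rw [Nat.add_assoc, Nat.add_comm 1] at this
      exact isKos_iso (LinearEquiv.toModuleIso (Submodule.quotOfListConsSMulTopEquivQuotSMulTopInner M f fs).symm) this

end Groth.Agent.KosDual
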