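import Groth.Agent.KosDual.Local
import Groth.Agent.BoxLib.SplitField
import Groth.Agent.DCohMore.PerfHom

/-!
# Maps into a skyscraper and maps out of the dual
-/

set_option autoImplicit false
set_option linter.style.haveILetI false
set_option backward.isDefEq.respectTransparency false
set_option maxHeartbeats 1000000

universe u

open CategoryTheory CategoryTheory.Limits AlgebraicGeometry Opposite
open Groth.Agent.DCohLib Groth.Agent.PerfDual

attribute [local instance] HasDerivedCategory.standard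

noncomputable section

namespace Groth.Agent.KosDual

theorem forall_zero_of_equiv {C D : Type*} [Category C] [Category D] [Preadditive C] [Preadditive D]
    {A B : C} {A' B' : D} (e : (A ⟶ B) ≃ (A' ⟶ B')) (h : ∀ φ : A ⟶ B, φ = 0) (ψ : A' ⟶ B') : ψ = 0 :=
  e.symm.injective ((h _).trans (h _).symm)

/-- Over a field, vanishing of maps into a shift of the unit gives vanishing of maps out of it. -/
theorem hom_unit_eq_zero_field {k : CommRingCat.{u}} (hk : IsField k) (V : DCoh.D (Spec k)) (hV : DCoh.IsPerfect V)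
    (n : ℤ) (h : ∀ φ : V ⟶ (DCoh.inD (Spec k) (Coh.structureModule (Spec k)))⟦n⟧, φ = 0)
    (ψ : (DCoh.inD (Spec k) (Coh.structureModule (Spec k)))⟦n⟧ ⟶ V) : ψ = 0 := by
  let Z := Spec k
  let O := DCoh.inD Z (Coh.structureModule Z)
  let t := DerivedCategory.TStructure.t (C := Z.Modules)
  haveI : O.IsGE 0 := inferInstanceAs (((DerivedCategory.singleFunctor Z.Modules 0).obj _).IsGE 0)
  haveI : O.IsLE 0 := inferInstanceAs (((DerivedCategory.singleFunctor Z.Modules 0).obj _).IsLE 0)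
  -- the pairing of maps out of and into shifts of the unit is non-degenerate
  let P : ObjectProperty (DCoh.D Z) := fun W => ∀ (n : ℤ) (ψ : O⟦n⟧ ⟶ W), (∀ φ : W ⟶ O⟦n⟧, ψ ≫ φ = 0) → ψ = 0
  haveI : P.IsStableUnderRetracts := ⟨fun {X Y} r hY n ψ hψ => by
    have h0 : ψ ≫ r.i = 0 := hY n _ fun φ => by rw [Category.assoc]; exact hψ _
    rw [← Category.comp_id ψ, ← r.retract, reassoc_of% h0, zero_comp]⟩
  have hbi : ∀ U V, P U → P V → P (U ⊞ V) := fun U V hU hV n ψ hψ =>
    biprod.hom_ext _ _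
      ((hU n _ fun φ => by rw [Category.assoc]; exact hψ _).trans zero_comp.symm)
      ((hV n _ fun φ => by rw [Category.assoc]; exact hψ _).trans zero_comp.symm)
  haveI : IsNoetherianRing k := by letI := hk.toField; infer_instance
  haveI : IsNoetherian Z := {}
  obtain ⟨-, a, b, ha, hb⟩ := isCohD_bounded_of_isPerfect V hV
  haveI := ha
  haveI := hb
  have hOc : ∀ c : ℤ, P (O⟦c⟧) := fun c m χ hχ => by
    by_cases hmc : m = c
    · subst hmc
      exact (Category.comp_id χ).symm.trans (hχ (𝟙 _))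
    rcases lt_or_gt_of_ne hmc with hlt | hgt
    · let adj := (shiftEquiv (DCoh.D Z) m).toAdjunction
      apply (adj.homEquiv _ _).injective
      let W := (O⟦c⟧)⟦-m⟧
      haveI : t.IsLE (O⟦c⟧) (-c) := t.isLE_shift _ 0 c (-c) (by omega)
      haveI : t.IsLE W (m - c) := t.isLE_shift _ (-c) (-m) (m - c) (by omega)
      haveI hW1 : W.IsLE (-1) := t.isLE_of_le W (m - c) (-1) (by omega)
      have hq : DCoh.IsQCohD W := DCohMore.isQCohD_shift'
        (DCohMore.isQCohD_shift' (DCohMore.isQCohD_of_isPerfect (isPerfect_inD (BCLib.isFinLocFree_structureModule Z))) c) _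
      have hz : ∀ g : O ⟶ W, g = 0 := fun g => DCohMore.eq_zero_of_isLE_affine W hq hW1 g
      exact (hz _).trans (hz _).symm
    · haveI : t.IsLE (O⟦m⟧) (-m) := t.isLE_shift _ 0 m (-m) (by omega)
      haveI : t.IsGE (O⟦c⟧) (-c) := t.isGE_shift _ 0 c (-c) (by omega)
      exact t.zero χ (-m) (-c) (by omega)
  exact BoxLib.prop_of_isPerfect_field hk P (fun W hW m χ _ => hW.eq_of_tgt _ _) hbi a b
    (fun c _ _ => hOc (-c)) V hV n ψ fun φ => by rw [h φ, comp_zero]

variable {X : Scheme.{u}} [IsLocallyNoetherian X]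

/-- Vanishing of maps of a perfect object into a shifted skyscraper gives vanishing for the dual in the
opposite degree. -/
theorem dual_hom_eq_zero (x : X) (hx : IsClosed ({x} : Set X)) (A : DCoh.D X) (hA : DCoh.IsPerfect A) (n : ℤ)
    (h : ∀ φ : A ⟶ (DCoh.inD X (SkyHomLib.skyO X x))⟦n⟧, φ = 0)
    (φ : (Dv X).obj (op A) ⟶ (DCoh.inD X (SkyHomLib.skyO X x))⟦-n⟧) : φ = 0 := by
  let Z := Spec (X.residueField x)
  let f : Z ⟶ X := X.fromSpecResidueField x
  haveI : IsClosedImmersion f := isClosed_singleton_iff_isClosedImmersion.1 hx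
  haveI : IsLocallyNoetherian Z := LocallyOfFiniteType.isLocallyNoetherian f
  haveI := DCohMore.BC.hasRpush f
  haveI := hasLpull f
  haveI : SiteCmp.HasRpushD (ModSite.RMor.ofScheme f) := ‹DCoh.HasRpush f›
  obtain ⟨h₁, h₂⟩ := SiteCmpLib.exists_triangulated_rpushD (ModSite.RMor.ofScheme f)
  letI : (DCoh.Rpush f).CommShift ℤ := h₁
  let O := Coh.structureModule Z
  obtain ⟨r⟩ := FMKLib.nonempty_rpush_closed f
  let eO : (DCoh.Rpush f).obj (DCoh.inD Z O) ≅ DCoh.inD X (SkyHomLib.skyO X x) :=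
    r.app _ ≪≫ ((Scheme.Modules.pushforward f).mapDerivedCategorySingleFunctor 0).app O
  let V := (DCoh.Lpull f).obj A
  have hVp : DCoh.IsPerfect V := isPerfect_lpull f A hA
  let eOn : (DCoh.Rpush f).obj ((DCoh.inD Z O)⟦n⟧) ≅ (DCoh.inD X (SkyHomLib.skyO X x))⟦n⟧ :=
    ((DCoh.Rpush f).commShiftIso n).app _ ≪≫ (shiftFunctor (DCoh.D X) n).mapIso eO
  have hV : ∀ ψ : V ⟶ (DCoh.inD Z O)⟦n⟧, ψ = 0 :=
    forall_zero_of_equiv (((Iso.refl A).homCongr eOn.symm).trans ((lpullRpushAdj f).homEquiv _ _).symm) h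
  have hV' : ∀ ψ : DCoh.inD Z O ⟶ V⟦-n⟧, ψ = 0 :=
    forall_zero_of_equiv ((shiftEquiv (DCoh.D Z) n).toAdjunction.homEquiv _ _)
      (hom_unit_eq_zero_field (Field.toIsField (X.residueField x : Type u)) V hVp n hV)
  -- the chain for the dual
  let W := (Dv X).obj (op A)
  let Ex := (resX X).obj (DerivedCategory.Q.objPreimage W)
  let eEx : DerivedCategory.Q.obj Ex ≅ W := resXIso W
  haveI := hasLTensorCx Ex
  haveI := hasRSheafHom_of_isKFlat Ex (isKFlat_resX _)
  let OX := DCoh.inD X (Coh.structureModule X)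
  let P := (DCoh.RSheafHom Ex).obj OX
  have hExp : DCoh.IsPerfect (DerivedCategory.Q.obj Ex) := isPerfect_iso eEx.symm (isPerfect_Dv hA)
  haveI : IsIso (DerivedCategory.Q.map (ηc X)) :=
    (DerivedCategory.isIso_Q_map_iff_quasiIso (C := X.Modules) _).2 (quasiIso_ηc X)
  obtain ⟨r'⟩ := nonempty_rSheafHom_hCx Ex (isKFlat_resX _) (Jc X)
  haveI := isIso_bid_app hA
  let eP : A ≅ P := asIso ((bid X).app A) ≪≫
    (Dv X).mapIso eEx.op ≪≫ dvObjIso (isKFlat_resX _) ≪≫ r' ≪≫
      (DCoh.RSheafHom Ex).mapIso ((asIso (DerivedCategory.Q.map (ηc X))).symm ≪≫ unitDIso.symm)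
  let D := (resX X).obj (DerivedCategory.Q.objPreimage P)
  haveI := hasLTensorCx D
  let G := SkyHomLib.skyO X x
  obtain ⟨sy⟩ := FMPerfLib.nonempty_lTensorMod_symm G P D (isKFlat_resX _) (resXIso P)
  let M := (shiftFunctor (DCoh.D X) (-n)).obj (DCoh.inD X G)
  obtain ⟨eR⟩ := nonempty_lTensor_dual Ex (isKFlat_resX _) hExp D (isKFlat_resX _) (resXIso P) M
  obtain ⟨p⟩ := DCohMore.nonempty_lTensorMod_pushforward f O
    (isCoh_of_isFinLocFree (BCLib.isFinLocFree_structureModule Z)).1 A (DCohMore.isQCohD_of_isPerfect hA)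
  obtain ⟨u⟩ := DCohMore.TwistFam.nonempty_lTensorMod_unit (Iso.refl O) V
  let t : (DCoh.Rpush f).obj (V⟦-n⟧) ≅ (DCoh.RSheafHom Ex).obj M :=
    ((DCoh.Rpush f).commShiftIso (-n)).app V ≪≫
    (shiftFunctor (DCoh.D X) (-n)).mapIso ((DCoh.Rpush f).mapIso u.symm ≪≫ p.symm ≪≫
        (DCoh.LTensorMod G).mapIso eP ≪≫ sy ≪≫ (DCoh.LTensorCx D).mapIso
        ((DerivedCategory.singleFunctorIsoCompQ X.Modules 0).app G).symm) ≪≫
      (FMPerfLib.lTensorShift D (isKFlat_resX _) (DCoh.inD X G) (-n)).symm ≪≫ eR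
  obtain ⟨sw⟩ := nonempty_symCxSch (unitCx X) Ex
  haveI := isIso_lTensorCounit_app_of_isKFlat Ex (isKFlat_resX _) (unitCx X)
  let eK : (DCoh.LTensorCx Ex).obj OX ≅ W :=
    (DCoh.LTensorCx Ex).mapIso unitDIso ≪≫ asIso ((lTensorCounit Ex).app (unitCx X)) ≪≫
      DerivedCategory.Q.mapIso (sw ≪≫ tensorUnitCxIso.app Ex) ≪≫ eEx
  haveI : IsIso ((DCohMore.BC.lamN f 0).app (Coh.structureModule X)) :=
    DCohMore.BC.isIso_lamN_app_flat f 0 _ ((isFlat_iff _).2 (SiteBase.ExtZeroPre.isFlat_unit X.sheaf))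
  let eU : (DCoh.Lpull f).obj OX ≅ DCoh.inD Z O :=
    asIso ((DCohMore.BC.lamN f 0).app (Coh.structureModule X)) ≪≫ (DCohMore.BC.TT Z 0).mapIso (pullStructureIso f)
  exact forall_zero_of_equiv ((eU.symm.homCongr (Iso.refl _)).trans (((lpullRpushAdj f).homEquiv _ _).trans
    (((Iso.refl _).homCongr t).trans (((DCoh.RSheafHomAdj Ex).homEquiv _ _).symm.trans
      (eK.homCongr (Iso.refl _)))))) hV' φ

end Groth.Agent.KosDual
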