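import Groth.Agent.KosDual.Chart
import Groth.Agent.PerfDual.Bidual
import Groth.Agent.SkyOrth.Fibre
import Groth.Agent.FMPerfLib.Bounded
import Groth.Agent.DCohLib.Adjoint
import Groth.Agent.TildeD.QCohPull

/-!
# Local consequences of Koszul duality at a closed point
-/

set_option autoImplicit false
set_option linter.style.haveILetI false
set_option backward.isDefEq.respectTransparency false
set_option maxHeartbeats 1000000

universe u

open CategoryTheory CategoryTheory.Limits AlgebraicGeometry Opposite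
open Groth.Agent.DCohLib Groth.Agent.PerfDual

attribute [local instance] HasDerivedCategory.standard

noncomputable section

namespace Groth.Agent.KosDual

/-- Vanishing of maps into a skyscraper kills the cohomology of the dual at the point. -/
theorem not_mem_support_dual {X : Scheme.{u}} [IsLocallyNoetherian X] (x : X) (hx : IsClosed ({x} : Set X))
    (W : DCoh.D X) (hW : DCoh.IsPerfect W) (i : ℤ)
    (h : ∀ φ : W ⟶ (DCoh.inD X (SkyHomLib.skyO X x))⟦i⟧, φ = 0) :
    x ∉ CohB1.support (DCoh.HD ((Dv X).obj (op W)) i) := by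
  let Ex := (resX X).obj (DerivedCategory.Q.objPreimage W)
  let eEx : DerivedCategory.Q.obj Ex ≅ W := resXIso W
  haveI := hasLTensorCx Ex
  haveI := hasRSheafHom_of_isKFlat Ex (isKFlat_resX _)
  let O := DCoh.inD X (Coh.structureModule X)
  let P := (DCoh.RSheafHom Ex).obj O
  have hExp : DCoh.IsPerfect (DerivedCategory.Q.obj Ex) := isPerfect_iso eEx.symm hW
  have hP : DCoh.IsPerfect P := isPerfect_rSheafHom_unit Ex (isKFlat_resX _) hExp
  let D := (resX X).obj (DerivedCategory.Q.objPreimage P)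
  haveI := hasLTensorCx D
  let G := SkyHomLib.skyO X x
  haveI := hasLTensorMod G
  obtain ⟨sy⟩ := FMPerfLib.nonempty_lTensorMod_symm G P D (isKFlat_resX _) (resXIso P)
  let M := (shiftFunctor (DCoh.D X) i).obj (DCoh.inD X G)
  obtain ⟨eR⟩ := nonempty_lTensor_dual Ex (isKFlat_resX _) hExp D (isKFlat_resX _) (resXIso P) M
  let t : (shiftFunctor (DCoh.D X) i).obj ((DCoh.LTensorMod G).obj P) ≅ (DCoh.RSheafHom Ex).obj M :=
    (shiftFunctor (DCoh.D X) i).mapIso (sy ≪≫ (DCoh.LTensorCx D).mapIso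
        ((DerivedCategory.singleFunctorIsoCompQ X.Modules 0).app G).symm) ≪≫
      (FMPerfLib.lTensorShift D (isKFlat_resX _) (DCoh.inD X G) i).symm ≪≫ eR
  obtain ⟨sw⟩ := nonempty_symCxSch (unitCx X) Ex
  haveI := isIso_lTensorCounit_app_of_isKFlat Ex (isKFlat_resX _) (unitCx X)
  let eK : (DCoh.LTensorCx Ex).obj O ≅ W :=
    (DCoh.LTensorCx Ex).mapIso unitDIso ≪≫ asIso ((lTensorCounit Ex).app (unitCx X)) ≪≫
      DerivedCategory.Q.mapIso (sw ≪≫ tensorUnitCxIso.app Ex) ≪≫ eEx
  have hnot := SkyOrth.not_mem_support_of_hom_lTensorMod x hx P hP i fun φ => by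
    apply (((Iso.refl _).homCongr t).trans
      (((DCoh.RSheafHomAdj Ex).homEquiv _ _).symm.trans (eK.homCongr (Iso.refl _)))).injective
    exact (h _).trans (h _).symm
  haveI : IsIso (DerivedCategory.Q.map (ηc X)) :=
    (DerivedCategory.isIso_Q_map_iff_quasiIso (C := X.Modules) _).2 (quasiIso_ηc X)
  obtain ⟨r⟩ := nonempty_rSheafHom_hCx Ex (isKFlat_resX _) (Jc X)
  let eP : (Dv X).obj (op W) ≅ P :=
    (Dv X).mapIso eEx.op ≪≫ dvObjIso (isKFlat_resX _) ≪≫ r ≪≫
      (DCoh.RSheafHom Ex).mapIso ((asIso (DerivedCategory.Q.map (ηc X))).symm ≪≫ unitDIso.symm)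
  rwa [SkyHomLib.support_congr ((DerivedCategory.homologyFunctor X.Modules i).mapIso eP)]

/-- Duality is full on perfect objects. -/
theorem Dv_surjective {X : Scheme.{u}} {A B : DCoh.D X} (hA : DCoh.IsPerfect A) (hB : DCoh.IsPerfect B)
    (ψ : (Dv X).obj (op A) ⟶ (Dv X).obj (op B)) : ∃ f : B ⟶ A, (Dv X).map f.op = ψ := by
  let ι := ObjectProperty.ι (SGA6.perfP X)
  let A' : (SGA6.perfP X).FullSubcategory := ⟨A, hA⟩
  let B' : (SGA6.perfP X).FullSubcategory := ⟨B, hB⟩
  obtain ⟨g, hg⟩ := (DP X).map_surjective (X := op A') (Y := op B')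
    (ι.preimage (X := (DP X).obj (op A')) (Y := (DP X).obj (op B')) ψ)
  exact ⟨g.unop.hom, (congrArg ι.map hg).trans (ι.map_preimage _)⟩

variable {X : Scheme.{u}}

/-- Transfer of maps out of a skyscraper to a chart. -/
theorem exists_restrict_data [IsLocallyNoetherian X] {R : CommRingCat.{u}} (j : Spec R ⟶ X) [IsOpenImmersion j]
    (x₀ : Spec R) (hx : IsClosed ({j x₀} : Set X)) (hx₀ : IsClosed ({x₀} : Set (Spec R))) :
    ∃ e : (DCoh.restrictD j).obj (DCoh.inD X (SkyHomLib.skyO X (j x₀))) ≅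
        T₀ R (ModuleCat.of R ((R : Type u) ⧸ x₀.asIdeal)),
      ∀ W : DCoh.D X, Function.Bijective
        (fun g : DCoh.inD X (SkyHomLib.skyO X (j x₀)) ⟶ W => e.inv ≫ (DCoh.restrictD j).map g) := by
  obtain ⟨r⟩ := nonempty_restrict_sky j x₀
  obtain ⟨t⟩ := nonempty_sky_tilde x₀ hx₀
  let e : (DCoh.restrictD j).obj (DCoh.inD X (SkyHomLib.skyO X (j x₀))) ≅
      T₀ R (ModuleCat.of R ((R : Type u) ⧸ x₀.asIdeal)) :=
    ((Scheme.Modules.restrictFunctor j).mapDerivedCategorySingleFunctor 0).app _ ≪≫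
      (DerivedCategory.singleFunctor (Spec R).Modules 0).mapIso (r ≪≫ t.symm)
  refine ⟨e, fun W => e.homFromEquiv.bijective.comp ?_⟩
  refine bijective_restrictD_of_support j {j x₀} hx (Set.singleton_subset_iff.2 ⟨x₀, rfl⟩) _ (fun i => ?_) W
  haveI : IsClosedImmersion (X.fromSpecResidueField (j x₀)) := isClosed_singleton_iff_isClosedImmersion.1 hx
  intro y hy
  by_cases hi : i = 0
  · subst hi
    have h1 : y ∈ CohB1.support (SkyHomLib.skyO X (j x₀)) := by
      have e0 := SkyHomLib.support_congr ((DerivedCategory.singleFunctorCompHomologyFunctorIso X.Modules 0).app (SkyHomLib.skyO X (j x₀)))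
      exact e0 ▸ hy
    have h2 := IntLib.support_pushforward_subset (X.fromSpecResidueField (j x₀)) _ h1
    rwa [Scheme.range_fromSpecResidueField] at h2
  · refine absurd (subsingleton_stalk_of_isZero ?_ y) hy
    haveI : (DCoh.inD X (SkyHomLib.skyO X (j x₀))).IsGE 0 := inferInstanceAs (((DerivedCategory.singleFunctor X.Modules 0).obj _).IsGE 0)
    haveI : (DCoh.inD X (SkyHomLib.skyO X (j x₀))).IsLE 0 := inferInstanceAs (((DerivedCategory.singleFunctor X.Modules 0).obj _).IsLE 0)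
    rcases lt_or_gt_of_ne hi with hq | hq
    · exact DerivedCategory.isZero_of_isGE _ 0 i hq
    · exact DerivedCategory.isZero_of_isLE _ 0 i hq

/-- Maps out of a skyscraper vanish above the dimension into objects in non-positive degrees. -/
theorem hom_from_sky_eq_zero [IsLocallyNoetherian X] (hreg : Models.IsRegularScheme X) (x : X)
    (hx : IsClosed ({x} : Set X)) (d : ℕ) (hd : ringKrullDim (X.presheaf.stalk x) = d)
    (A : DCoh.D X) (hA : DCoh.IsQCohD A) [A.IsLE 0] (i : ℤ) (hi : (d : ℤ) < i)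
    (φ : DCoh.inD X (SkyHomLib.skyO X x) ⟶ A⟦i⟧) : φ = 0 := by
  obtain ⟨R, j, hj, x₀, hR, rfl, hx₀, hK⟩ := exists_chart hreg x hx d hd
  obtain ⟨e, hb⟩ := exists_restrict_data j x₀ hx hx₀
  refine (hb _).1 ?_
  show e.inv ≫ (DCoh.restrictD j).map φ = e.inv ≫ (DCoh.restrictD j).map 0
  rw [Functor.map_zero, comp_zero]
  haveI : ((DCoh.restrictD j).obj A).IsLE 0 := (DerivedCategory.isLE_iff _ _).2 fun q hq =>
    ((Scheme.Modules.restrictFunctor j).map_isZero ((DerivedCategory.isLE_iff A 0).1 inferInstance q hq)).of_iso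
      (restrictHDIso j A q)
  rw [← cancel_mono (((DCoh.restrictD j).commShiftIso i).hom.app A), zero_comp]
  exact hK.vanish _ (TildeD.isQCohD_restrict j A hA) inferInstance i hi _

/-- Vanishing of maps out of a skyscraper kills a cohomology sheaf at the point. -/
theorem not_mem_support_of_hom_from_sky [IsLocallyNoetherian X] (hreg : Models.IsRegularScheme X) (x : X)
    (hx : IsClosed ({x} : Set X)) (d : ℕ) (hd : ringKrullDim (X.presheaf.stalk x) = d)
    (K : DCoh.D X) (hKp : DCoh.IsPerfect K) (i : ℤ)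
    (h : ∀ φ : DCoh.inD X (SkyHomLib.skyO X x) ⟶ K⟦i⟧, φ = 0) :
    x ∉ CohB1.support (DCoh.HD K (i - d)) := by
  obtain ⟨R, j, hj, x₀, hR, rfl, hx₀, hK⟩ := exists_chart hreg x hx d hd
  obtain ⟨e, hb⟩ := exists_restrict_data j x₀ hx hx₀
  let Y := Spec R
  let S := T₀ R (ModuleCat.of R ((R : Type u) ⧸ x₀.asIdeal))
  let K' := (DCoh.restrictD j).obj K
  have hK' : DCoh.IsPerfect K' := isPerfect_restrict j hKp
  have hS : ∀ φ : S ⟶ K'⟦i⟧, φ = 0 := fun φ => by
    obtain ⟨g, hg⟩ := (hb _).2 (φ ≫ ((DCoh.restrictD j).commShiftIso i).inv.app K)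
    rw [h g] at hg
    simp only [Functor.map_zero, comp_zero] at hg
    exact (cancel_mono (((DCoh.restrictD j).commShiftIso i).inv.app K)).1 (hg.symm.trans zero_comp.symm)
  haveI : IsLocallyNoetherian Y := inferInstance
  have hSp : DCoh.IsPerfect S := by
    have hj' : Models.IsRegularScheme Y := fun y => by
      haveI := hreg (j y)
      exact IsRegularLocalRing.of_ringEquiv (asIso (j.stalkMap y)).commRingCatIsoToRingEquiv
    haveI : (T₀ R (ModuleCat.of R ((R : Type u) ⧸ x₀.asIdeal))).IsGE 0 := inferInstanceAs (((DerivedCategory.singleFunctor Y.Modules 0).obj _).IsGE 0)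
    haveI : S.IsLE 0 := inferInstanceAs (((DerivedCategory.singleFunctor Y.Modules 0).obj _).IsLE 0)
    refine DCohMore.isPerfect_of_regular hj' _ 0 0 fun q => ?_
    rcases eq_or_ne q 0 with rfl | hq
    · obtain ⟨t⟩ := nonempty_sky_tilde x₀ hx₀
      haveI : IsClosedImmersion (Y.fromSpecResidueField x₀) := isClosed_singleton_iff_isClosedImmersion.1 hx₀
      haveI : IsLocallyNoetherian (Spec (Y.residueField x₀)) := LocallyOfFiniteType.isLocallyNoetherian (Y.fromSpecResidueField x₀)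
      exact isCoh_iso ((DerivedCategory.singleFunctorCompHomologyFunctorIso Y.Modules 0).app _).symm
        (isCoh_iso t.symm (DevLib.isCoh_pushforward_closed (Y.fromSpecResidueField x₀)
          (isCoh_of_isFinLocFree (BCLib.isFinLocFree_structureModule _))))
    · refine isCoh_of_isFinLocFree (isFinLocFree_of_isZero ?_)
      rcases lt_or_gt_of_ne hq with hq | hq
      · exact DerivedCategory.isZero_of_isGE _ 0 q hq
      · exact DerivedCategory.isZero_of_isLE _ 0 q hq
  have hS' : ∀ ψ : S⟦-i⟧ ⟶ K', ψ = 0 := fun ψ => by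
    let adj := (shiftEquiv (DCoh.D Y) i).symm.toAdjunction
    exact (adj.homEquiv _ _).injective ((hS _).trans (hS _).symm)
  obtain ⟨v⟩ := hK.dual
  obtain ⟨s⟩ := nonempty_Dv_shift S (-i)
  let t : (Dv Y).obj (op (S⟦-i⟧)) ≅ S⟦i - (d : ℤ)⟧ :=
    s ≪≫ (shiftFunctor (DCoh.D Y) (-(-i))).mapIso v ≪≫
      ((shiftFunctorAdd' (DCoh.D Y) (-(d : ℤ)) (-(-i)) (i - d) (by omega)).app S).symm
  obtain ⟨tS⟩ := nonempty_sky_tilde x₀ hx₀
  let u : S ≅ DCoh.inD Y (SkyHomLib.skyO Y x₀) := (DerivedCategory.singleFunctor Y.Modules 0).mapIso tS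
  have hD := not_mem_support_dual x₀ hx₀ ((Dv Y).obj (op K')) (isPerfect_Dv hK') (i - d) fun φ => by
    let c := t ≪≫ (shiftFunctor (DCoh.D Y) (i - (d : ℤ))).mapIso u
    obtain ⟨f, hf⟩ := Dv_surjective hK' (isPerfect_shift hSp (-i)) (φ ≫ c.inv)
    rw [hS' f] at hf
    refine (cancel_mono c.inv).1 ?_
    rw [zero_comp, ← hf]
    exact (Dv Y).map_zero _ _
  haveI := isIso_bid_app hK'
  rw [show ((Dv Y).obj (op ((Dv Y).obj (op K')))) = (((Dv Y).rightOp ⋙ Dv Y).obj K') from rfl,
    ← SkyHomLib.support_congr ((DerivedCategory.homologyFunctor Y.Modules (i - d)).mapIso (asIso ((bid Y).app K')))] at hD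
  intro hm
  refine hD fun hs => hm ?_
  have h2 := ((stkF x₀).mapIso (restrictHDIso j K (i - d))).toLinearEquiv.toEquiv.subsingleton_congr.1 hs
  exact ((Scheme.Modules.restrictStalkNatIso j x₀).app (DCoh.HD K (i - d))).addCommGroupIsoToAddEquiv.toEquiv.subsingleton_congr.1 h2

end Groth.Agent.KosDual
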