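import Groth.Agent.KosDual.Socle
import Groth.Agent.SuppLib.Basic
import Groth.Agent.QCohLib.Coherent

/-!
# The skyscraper is simple
-/

set_option autoImplicit false
set_option linter.style.haveILetI false
set_option backward.isDefEq.respectTransparency false
set_option maxHeartbeats 800000

universe u

open CategoryTheory CategoryTheory.Limits AlgebraicGeometry Opposite
open Groth.Agent.DCohLib

attribute [local instance] HasDerivedCategory.standard

noncomputable section

namespace Groth.Agent.KosDual

/-- A nonzero map to the structure sheaf of a field point is an epimorphism. -/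
theorem epi_to_unit_field {k : CommRingCat.{u}} (hk : IsField k) (N : (Spec k).Modules) [Coh.IsQCoh N]
    (a : N ⟶ Coh.structureModule (Spec k)) (ha : a ≠ 0) : Epi a := by
  letI := hk.toField
  obtain ⟨V, ⟨e⟩⟩ := TildeD.qcoh_exists_tilde (R := k) N
  obtain ⟨b, hb⟩ := (tilde.functor k).map_surjective (e.hom ≫ a ≫ tildeSelf.inv)
  have hb0 : b ≠ 0 := fun h0 => ha (by
    rw [h0, Functor.map_zero] at hb
    rw [← cancel_epi e.hom, comp_zero, ← cancel_mono (tildeSelf (R := k)).inv, zero_comp, Category.assoc]
    exact hb.symm)
  obtain ⟨v, hv⟩ : ∃ v, b.hom v ≠ 0 := by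
    by_contra h
    push Not at h
    exact hb0 (ModuleCat.hom_ext (LinearMap.ext h))
  have hsurj : Function.Surjective b.hom := fun c => ⟨(c * (b.hom v)⁻¹) • v, by
    rw [map_smul, smul_eq_mul, mul_assoc, inv_mul_cancel₀ hv, mul_one]⟩
  haveI : Epi b := (ModuleCat.epi_iff_surjective _).2 hsurj
  haveI : (tilde.functor k).PreservesEpimorphisms :=
    Functor.preservesEpimorphisms_of_adjunction tilde.adjunction
  have : a = e.inv ≫ (tilde.functor k).map b ≫ tildeSelf.hom := by rw [hb]; simp
  rw [this]
  infer_instance

theorem support_subset_of_epi' {X : Scheme.{u}} {M N : X.Modules} (f : M ⟶ N) [Epi f] :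
    CohB1.support N ⊆ CohB1.support M :=
  fun x hx hs => hx (((PullbackMod.epi_iff_stalk f).1 inferInstance x).subsingleton)

variable {X : Scheme.{u}} [IsLocallyNoetherian X]

/-- A nonzero map of a coherent sheaf to a skyscraper is an epimorphism. -/
theorem epi_to_sky (x : X) (hx : IsClosed ({x} : Set X)) (M : X.Modules) (hM : Coh.IsCoh M)
    (e : M ⟶ SkyHomLib.skyO X x) (he : e ≠ 0) : Epi e := by
  let f : Spec (X.residueField x) ⟶ X := X.fromSpecResidueField x
  haveI : IsClosedImmersion f := isClosed_singleton_iff_isClosedImmersion.1 hx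
  haveI : IsLocallyNoetherian (Spec (X.residueField x)) := LocallyOfFiniteType.isLocallyNoetherian f
  let O := Coh.structureModule (Spec (X.residueField x))
  let adj := Scheme.Modules.pullbackPushforwardAdjunction f
  haveI := hM.1
  haveI : Coh.IsQCoh ((Scheme.Modules.pullback f).obj M) := PullbackMod.isQCoh_pullback f M
  have hne : (adj.homEquiv M O).symm e ≠ 0 := fun h0 => he (by
    rw [← (adj.homEquiv M O).apply_symm_apply e, h0, Adjunction.homEquiv_unit, Functor.map_zero, comp_zero])
  haveI := epi_to_unit_field (Field.toIsField (X.residueField x : Type u)) _ _ hne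
  haveI := isIso_counit_closedImmersion f O
  have hpe : Epi ((Scheme.Modules.pullback f).map e) := by
    have : (Scheme.Modules.pullback f).map e = (adj.homEquiv M O).symm e ≫ inv (adj.counit.app O) := by
      rw [Adjunction.homEquiv_counit, Category.assoc, IsIso.hom_inv_id, Category.comp_id]
    rw [this]
    infer_instance
  have hS : Coh.IsCoh (SkyHomLib.skyO X x) :=
    DevLib.isCoh_pushforward_closed f (isCoh_of_isFinLocFree (BCLib.isFinLocFree_structureModule _))
  refine Abelian.epi_of_cokernel_π_eq_zero _ (IsZero.eq_of_tgt ?_ _ _)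
  have hC : Coh.IsCoh (cokernel e) := (QCohLib.isCoh_kernel_cokernel e hM hS).2
  haveI := hC.1
  refine isZero_of_stalks fun y => not_not.1 fun hy => ?_
  have hsub : CohB1.support (cokernel e) ⊆ Set.range f :=
    (support_subset_of_epi' (cokernel.π e)).trans (IntLib.support_pushforward_subset f O)
  obtain ⟨z, rfl⟩ := hsub hy
  have hz : z ∈ CohB1.support ((Scheme.Modules.pullback f).obj (cokernel e)) := by
    rw [SuppLib.support_pullback f _ hC.2]
    exact hy
  haveI := hpe
  haveI : (Scheme.Modules.pullback f).PreservesZeroMorphisms := Functor.preservesZeroMorphisms_of_preserves_initial_object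
  haveI : PreservesColimitsOfSize.{0, 0} (Scheme.Modules.pullback f) := adj.leftAdjoint_preservesColimits
  have h0 : IsZero (cokernel ((Scheme.Modules.pullback f).map e)) := isZero_cokernel_of_epi _
  exact hz (subsingleton_stalk_of_isZero (h0.of_iso (PreservesCokernel.iso (Scheme.Modules.pullback f) e)) z)

/-- A nonzero endomorphism of a skyscraper is an isomorphism. -/
theorem isIso_sky_endo (x : X) (hx : IsClosed ({x} : Set X)) (a : SkyHomLib.skyO X x ⟶ SkyHomLib.skyO X x)
    (ha : a ≠ 0) : IsIso a := by
  let f : Spec (X.residueField x) ⟶ X := X.fromSpecResidueField x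
  haveI : IsClosedImmersion f := isClosed_singleton_iff_isClosedImmersion.1 hx
  let O := Coh.structureModule (Spec (X.residueField x))
  let adj := Scheme.Modules.pullbackPushforwardAdjunction f
  haveI := isIso_counit_closedImmersion f O
  let a₀ : O ⟶ O := inv (adj.counit.app O) ≫ (adj.homEquiv _ _).symm a
  have hinv : adj.unit.app ((Scheme.Modules.pushforward f).obj O) =
      (Scheme.Modules.pushforward f).map (inv (adj.counit.app O)) := by
    rw [Functor.map_inv]
    exact IsIso.eq_inv_of_inv_hom_id (adj.right_triangle_components O)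
  have ha₀ : (Scheme.Modules.pushforward f).map a₀ = a := by
    show (Scheme.Modules.pushforward f).map (inv (adj.counit.app O) ≫ (adj.homEquiv _ _).symm a) = a
    rw [Functor.map_comp, ← hinv]
    exact (adj.homEquiv_unit ..).symm.trans (Equiv.apply_symm_apply _ _)
  have hne : a₀ ≠ 0 := fun h => ha (by rw [← ha₀, h, Functor.map_zero])
  haveI := hne
  haveI : IsIso a₀ := by
    letI := (Field.toIsField (X.residueField x : Type u)).toField
    let k := X.residueField x
    let t : tilde (ModuleCat.of k k) ≅ O := tildeSelf
    obtain ⟨b, hb⟩ := (tilde.functor k).map_surjective (t.hom ≫ a₀ ≫ t.inv)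
    have hb0 : b ≠ 0 := fun h0 => hne (by
      rw [h0, Functor.map_zero] at hb
      rw [← cancel_epi t.hom, comp_zero, ← cancel_mono t.inv, zero_comp, Category.assoc]
      exact hb.symm)
    haveI : IsSimpleModule k k := inferInstance
    haveI : IsIso b := by
      have := b.hom.bijective_or_eq_zero.resolve_right fun h => hb0 (ModuleCat.hom_ext h)
      exact (ConcreteCategory.isIso_iff_bijective b).2 this
    have : a₀ = t.inv ≫ (tilde.functor k).map b ≫ t.hom := by rw [hb]; simp
    rw [this]
    infer_instance
  rw [← ha₀]
  infer_instance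

end Groth.Agent.KosDual
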