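import Groth.Agent.KosDual.BettiDual
import Groth.Agent.TildeD.QCohPull

/-!
# Objects supported at a closed point
-/

set_option autoImplicit false
set_option linter.style.haveILetI false
set_option backward.isDefEq.respectTransparency false
set_option maxHeartbeats 1000000

universe u

open CategoryTheory CategoryTheory.Limits AlgebraicGeometry Opposite
open Groth.Agent.DCohLib Groth.Agent.PerfDual

attribute [local instance] HasDerivedCategory.standard

noncomputable section

namespace Groth.Agent.KosDual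

set_option backward.isDefEq.respectTransparency.types false in
theorem exists_smul_eq_zero_of_stalk {A : CommRingCat.{u}} (M : ModuleCat.{u} A) (y : PrimeSpectrum.Top A)
    [Subsingleton ((tilde M).presheaf.stalk y)] (m : M) : ∃ c : y.asIdeal.primeCompl, c • m = 0 := by
  letI : Module A ((tilde M).presheaf.stalk y) :=
    inferInstanceAs (Module A ((tilde M).presheaf.stalk (y : PrimeSpectrum.Top A)))
  haveI : IsLocalizedModule y.asIdeal.primeCompl (tilde.toStalk M y).hom := inferInstance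
  exact (IsLocalizedModule.eq_zero_iff y.asIdeal.primeCompl (tilde.toStalk M y).hom).1
    (Subsingleton.elim ((tilde.toStalk M y).hom m) 0)

/-- A nonzero module supported at a maximal ideal has a nonzero element killed by it. -/
theorem exists_socle_hom {R : CommRingCat.{u}} [IsNoetherianRing R] (x₀ : Spec R)
    (P : ModuleCat.{u} R) (hne : ¬ IsZero P)
    (hsupp : ∀ y : Spec R, y ≠ x₀ → Subsingleton ((tilde P).presheaf.stalk y)) :
    ∃ g : ModuleCat.of R ((R : Type u) ⧸ x₀.asIdeal) ⟶ P, g ≠ 0 := by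
  classical
  obtain ⟨p, hp⟩ : ∃ p : P, p ≠ 0 := by
    by_contra h
    push_neg at h
    haveI : Subsingleton (P : Type u) := subsingleton_of_forall_eq 0 h
    exact hne (ModuleCat.isZero_of_subsingleton P)
  let ann : Ideal R := LinearMap.ker (LinearMap.toSpanSingleton R P p)
  have hmem : ∀ r : R, r ∈ ann ↔ r • p = 0 := fun r => LinearMap.mem_ker
  have hle : x₀.asIdeal ≤ ann.radical := by
    rw [Ideal.radical_eq_sInf]
    refine le_sInf fun q ⟨hq, hqp⟩ => ?_
    by_cases hqx : (⟨q, hqp⟩ : Spec R) = x₀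
    · rw [← hqx]
    exfalso
    let y : PrimeSpectrum.Top R := ⟨q, hqp⟩
    haveI : Subsingleton ((tilde P).presheaf.stalk y) := hsupp ⟨q, hqp⟩ hqx
    obtain ⟨c, hc⟩ := exists_smul_eq_zero_of_stalk P y p
    exact c.2 (hq ((hmem c).2 hc))
  obtain ⟨N, hN⟩ := Ideal.exists_pow_le_of_le_radical_of_fg hle (IsNoetherian.noetherian _)
  have hex : ∃ k, ∀ r ∈ x₀.asIdeal ^ k, r • p = 0 := ⟨N, fun r hr => (hmem r).1 (hN hr)⟩
  have h0 : Nat.find hex ≠ 0 := fun h => hp (by
    have := Nat.find_spec hex 1 (by rw [h, pow_zero, Ideal.one_eq_top]; trivial)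
    rwa [one_smul] at this)
  obtain ⟨k, hk⟩ := Nat.exists_eq_succ_of_ne_zero h0
  have hk' := Nat.find_min hex (show k < Nat.find hex by omega)
  push_neg at hk'
  obtain ⟨r, hr, hrp⟩ := hk'
  let l : (R : Type u) →ₗ[R] P := LinearMap.toSpanSingleton R P (r • p)
  have hl : x₀.asIdeal ≤ LinearMap.ker l := fun a ha => by
    rw [LinearMap.mem_ker, LinearMap.toSpanSingleton_apply, ← mul_smul]
    refine Nat.find_spec hex _ ?_
    rw [hk, pow_succ']
    exact Ideal.mul_mem_mul ha hr
  refine ⟨ModuleCat.ofHom (X := (R : Type u) ⧸ x₀.asIdeal) (Submodule.liftQ x₀.asIdeal l hl), fun hg => hrp ?_⟩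
  have := congr($(hg) (Submodule.Quotient.mk 1))
  simp only [ModuleCat.hom_ofHom, ModuleCat.hom_zero, LinearMap.zero_apply] at this
  change l 1 = 0 at this
  rwa [LinearMap.toSpanSingleton_apply, one_smul] at this

/-- The skyscraper of a regular point is perfect. -/
theorem isPerfect_sky {X : Scheme.{u}} [IsLocallyNoetherian X] (hreg : Models.IsRegularScheme X) (x : X)
    (hx : IsClosed ({x} : Set X)) : DCoh.IsPerfect (DCoh.inD X (SkyHomLib.skyO X x)) := by
  let f : Spec (X.residueField x) ⟶ X := X.fromSpecResidueField x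
  haveI : IsClosedImmersion f := isClosed_singleton_iff_isClosedImmersion.1 hx
  haveI : IsLocallyNoetherian (Spec (X.residueField x)) := LocallyOfFiniteType.isLocallyNoetherian f
  haveI : (DCoh.inD X (SkyHomLib.skyO X x)).IsGE 0 := inferInstanceAs (((DerivedCategory.singleFunctor X.Modules 0).obj _).IsGE 0)
  haveI : (DCoh.inD X (SkyHomLib.skyO X x)).IsLE 0 := inferInstanceAs (((DerivedCategory.singleFunctor X.Modules 0).obj _).IsLE 0)
  refine DCohMore.isPerfect_of_regular hreg _ 0 0 fun q => ?_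
  rcases eq_or_ne q 0 with rfl | hq
  · exact isCoh_iso ((DerivedCategory.singleFunctorCompHomologyFunctorIso X.Modules 0).app _).symm
      (DevLib.isCoh_pushforward_closed f (isCoh_of_isFinLocFree (BCLib.isFinLocFree_structureModule _)))
  · refine isCoh_of_isFinLocFree (isFinLocFree_of_isZero ?_)
    rcases lt_or_gt_of_ne hq with hq | hq
    · exact DerivedCategory.isZero_of_isGE _ 0 q hq
    · exact DerivedCategory.isZero_of_isLE _ 0 q hq

/-- A nonzero map into the lowest cohomology gives a nonzero map into the object. -/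
theorem exists_hom_ne_zero_of_isGE {C : Type*} [Category C] [Abelian C] [HasDerivedCategory C]
    (K : DerivedCategory C) (n : ℤ) (hK : K.IsGE n) (G : C)
    (h : ∃ ψ : G ⟶ (DerivedCategory.homologyFunctor C n).obj K, ψ ≠ 0) :
    ∃ φ : (DerivedCategory.singleFunctor C n).obj G ⟶ K, φ ≠ 0 := by
  obtain ⟨ψ, hψ⟩ := h
  let t := DerivedCategory.TStructure.t (C := C)
  let T := (t.truncLT (n + 1)).obj K
  let ι := (t.truncLTι (n + 1)).app K
  haveI : t.IsGE K n := hK
  haveI : T.IsGE n := inferInstanceAs (t.IsGE ((t.truncLT (n + 1)).obj K) n)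
  haveI : T.IsLE n := t.isLE_truncLT_obj K (n + 1) n (by omega)
  obtain ⟨W, ⟨e⟩⟩ := DerivedCategory.exists_iso_singleFunctor_obj_of_isGE_of_isLE T n
  haveI hiso : IsIso ((DerivedCategory.homologyFunctor C n).map ι) :=
    DCohLib.isIso_homology_truncLTι K (n + 1) n (by omega)
  let u : W ≅ (DerivedCategory.homologyFunctor C n).obj K :=
    ((DerivedCategory.singleFunctorCompHomologyFunctorIso C n).app W).symm ≪≫
      (DerivedCategory.homologyFunctor C n).mapIso e.symm ≪≫ asIso ((DerivedCategory.homologyFunctor C n).map ι)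
  refine ⟨(DerivedCategory.singleFunctor C n).map (ψ ≫ u.inv) ≫ e.inv ≫ ι, fun h0 => hψ ?_⟩
  haveI : t.IsLE ((DerivedCategory.singleFunctor C n).obj G) ((n + 1) - 1) := by
    rw [add_sub_cancel_right]
    exact inferInstanceAs (((DerivedCategory.singleFunctor C n).obj G).IsLE n)
  have h1 : (DerivedCategory.singleFunctor C n).map (ψ ≫ u.inv) ≫ e.inv = 0 :=
    t.to_truncLT_obj_ext (by rw [Category.assoc, h0, zero_comp])
  have h2 : (DerivedCategory.singleFunctor C n).map (ψ ≫ u.inv) = 0 := by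
    rwa [← cancel_mono e.inv, zero_comp]
  rw [← cancel_mono u.inv, zero_comp]
  exact (DerivedCategory.singleFunctor C n).map_eq_zero_iff.1 h2

variable {X : Scheme.{u}}

/-- Skyscrapers at distinct closed points are orthogonal. -/
theorem hom_sky_sky_eq_zero [IsLocallyNoetherian X] (x y : X) (hx : IsClosed ({x} : Set X))
    (hy : IsClosed ({y} : Set X)) (hne : x ≠ y) (i : ℤ)
    (φ : DCoh.inD X (SkyHomLib.skyO X x) ⟶ (DCoh.inD X (SkyHomLib.skyO X y))⟦i⟧) : φ = 0 := by
  let U : X.Opens := ⟨({y} : Set X)ᶜ, hy.isOpen_compl⟩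
  have hsupp : ∀ (z : X) (_ : IsClosed ({z} : Set X)) (q : ℤ), CohB1.support (DCoh.HD (DCoh.inD X (SkyHomLib.skyO X z)) q) ⊆ {z} := by
    intro z hz q w hw
    haveI : IsClosedImmersion (X.fromSpecResidueField z) := isClosed_singleton_iff_isClosedImmersion.1 hz
    by_cases hq : q = 0
    · subst hq
      have e0 := SkyHomLib.support_congr ((DerivedCategory.singleFunctorCompHomologyFunctorIso X.Modules 0).app (SkyHomLib.skyO X z))
      have h2 := IntLib.support_pushforward_subset (X.fromSpecResidueField z) _ (e0 ▸ hw)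
      rwa [Scheme.range_fromSpecResidueField] at h2
    · refine absurd (subsingleton_stalk_of_isZero ?_ w) hw
      haveI : (DCoh.inD X (SkyHomLib.skyO X z)).IsGE 0 := inferInstanceAs (((DerivedCategory.singleFunctor X.Modules 0).obj _).IsGE 0)
      haveI : (DCoh.inD X (SkyHomLib.skyO X z)).IsLE 0 := inferInstanceAs (((DerivedCategory.singleFunctor X.Modules 0).obj _).IsLE 0)
      rcases lt_or_gt_of_ne hq with h | h
      · exact DerivedCategory.isZero_of_isGE _ 0 q h
      · exact DerivedCategory.isZero_of_isLE _ 0 q h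
  refine (bijective_restrictD_of_support U.ι {x} hx ?_ _ (hsupp x hx) _).1 ?_
  · rw [Scheme.Opens.range_ι]
    intro z hz
    rw [Set.mem_singleton_iff] at hz
    subst hz
    exact hne
  · have hz : IsZero ((DCoh.restrictD U.ι).obj (DCoh.inD X (SkyHomLib.skyO X y))) :=
      isZero_restrictD_of_support U fun q z hzU hz => hzU (hsupp y hy q hz)
    exact ((Functor.map_isZero (shiftFunctor _ i) hz).of_iso (((DCoh.restrictD U.ι).commShiftIso i).app _)).eq_of_tgt _ _

/-- An object supported at a point with only non-negative maps out of the skyscraper is concentrated in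
non-negative degrees. -/
theorem isGE_zero_of_hom_from_sky [IsLocallyNoetherian X] (hreg : Models.IsRegularScheme X) (x : X)
    (hx : IsClosed ({x} : Set X)) (d : ℕ) (hd : ringKrullDim (X.presheaf.stalk x) = d)
    (Q : DCoh.D X) (hQ : DCoh.IsPerfect Q) (hsupp : ∀ q : ℤ, CohB1.support (DCoh.HD Q q) ⊆ {x})
    (h : ∀ m : ℤ, (d : ℤ) < m → ∀ φ : Q ⟶ (DCoh.inD X (SkyHomLib.skyO X x))⟦m⟧, φ = 0) : Q.IsGE 0 := by
  obtain ⟨R, j, hj, x₀, hR, rfl, hx₀, hK⟩ := exists_chart hreg x hx d hd
  obtain ⟨e, -⟩ := exists_restrict_data j x₀ hx hx₀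
  haveI := hR
  let Y := Spec R
  haveI : IsNoetherian Y := {}
  let S := T₀ R (ModuleCat.of R ((R : Type u) ⧸ x₀.asIdeal))
  let Q' := (DCoh.restrictD j).obj Q
  have hQ' : DCoh.IsPerfect Q' := isPerfect_restrict j hQ
  obtain ⟨tS⟩ := nonempty_sky_tilde x₀ hx₀
  let u : S ≅ DCoh.inD Y (SkyHomLib.skyO Y x₀) := (DerivedCategory.singleFunctor Y.Modules 0).mapIso tS
  haveI : (DCoh.inD Y (SkyHomLib.skyO Y x₀)).IsGE 0 := inferInstanceAs (((DerivedCategory.singleFunctor Y.Modules 0).obj _).IsGE 0)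
  have hbij := fun W => bijective_restrictD_of_support j {j x₀} hx (Set.singleton_subset_iff.2 ⟨x₀, rfl⟩) Q hsupp W
  have hS1 : ∀ m : ℤ, (d : ℤ) < m → ∀ φ : Q' ⟶ (DCoh.inD Y (SkyHomLib.skyO Y x₀))⟦m⟧, φ = 0 := fun m hm φ => by
    let c : (DCoh.restrictD j).obj ((DCoh.inD X (SkyHomLib.skyO X (j x₀)))⟦m⟧) ≅ (DCoh.inD Y (SkyHomLib.skyO Y x₀))⟦m⟧ :=
      ((DCoh.restrictD j).commShiftIso m).app _ ≪≫ (shiftFunctor (DCoh.D Y) m).mapIso (e ≪≫ u)
    obtain ⟨g, hg⟩ := (hbij _).2 (φ ≫ c.inv)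
    rw [h m hm g] at hg
    simp only [Functor.map_zero] at hg
    exact (cancel_mono c.inv).1 (hg.symm.trans zero_comp.symm)
  have hSp : DCoh.IsPerfect (DCoh.inD Y (SkyHomLib.skyO Y x₀)) :=
    isPerfect_iso (e ≪≫ u) (isPerfect_restrict j (isPerfect_sky hreg (j x₀) hx))
  obtain ⟨v⟩ := hK.dual
  have hneg : ∀ i : ℤ, i < 0 → ∀ f : (DCoh.inD Y (SkyHomLib.skyO Y x₀))⟦-i⟧ ⟶ Q', f = 0 := by
    intro i hi f
    obtain ⟨s⟩ := nonempty_Dv_shift (DCoh.inD Y (SkyHomLib.skyO Y x₀)) (-i)
    let t : (Dv Y).obj (op ((DCoh.inD Y (SkyHomLib.skyO Y x₀))⟦-i⟧)) ≅ (DCoh.inD Y (SkyHomLib.skyO Y x₀))⟦-((d : ℤ) - i)⟧ :=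
      s ≪≫ (shiftFunctor (DCoh.D Y) (-(-i))).mapIso ((Dv Y).mapIso u.op ≪≫ v ≪≫
        (shiftFunctor (DCoh.D Y) (-(d : ℤ))).mapIso u) ≪≫
        ((shiftFunctorAdd' (DCoh.D Y) (-(d : ℤ)) (-(-i)) (-((d : ℤ) - i)) (by omega)).app _).symm
    have h0 : (Dv Y).map f.op = 0 := (cancel_mono t.hom).1
      ((dual_hom_eq_zero x₀ hx₀ Q' hQ' ((d : ℤ) - i) (hS1 _ (by omega)) _).trans zero_comp.symm)
    haveI := isIso_bid_app hQ'
    have hnat : f ≫ (bid Y).app Q' = (bid Y).app _ ≫ (Dv Y).map ((Dv Y).map f.op).op := (bid Y).naturality f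
    rw [h0] at hnat
    refine (cancel_mono ((bid Y).app Q')).1 (hnat.trans (Eq.trans ?_ zero_comp.symm))
    rw [show (0 : (Dv Y).obj (op Q') ⟶ (Dv Y).obj (op ((DCoh.inD Y (SkyHomLib.skyO Y x₀))⟦-i⟧))).op = 0 from rfl,
      (Dv Y).map_zero]
    exact comp_zero
  -- the lowest cohomology sheaf on the chart has a nonzero socle
  obtain ⟨hc, a, b, ha, -⟩ := isCohD_bounded_of_isPerfect Q' hQ'
  have hsub : ∀ (q : ℤ) (y : Y), y ≠ x₀ → Subsingleton ((DCoh.HD Q' q).presheaf.stalk y) := fun q y hy => by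
    have hs : Subsingleton ((DCoh.HD Q q).presheaf.stalk (j y)) :=
      not_not.1 fun hs => hy (j.isOpenEmbedding.injective (hsupp q hs))
    exact ((stkF y).mapIso (restrictHDIso j Q q)).toLinearEquiv.toEquiv.subsingleton_congr.2
      (((Scheme.Modules.restrictStalkNatIso j y).app (DCoh.HD Q q)).addCommGroupIsoToAddEquiv.toEquiv.subsingleton_congr.2 hs)
  have hGE : Q'.IsGE 0 := by
    suffices key : ∀ n : ℕ, Q'.IsGE (-(n : ℤ)) → Q'.IsGE 0 by
      refine key (-a).toNat ((DerivedCategory.isGE_iff _ _).2 fun q hq => ?_)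
      exact (DerivedCategory.isGE_iff Q' a).1 ha q (by omega)
    intro n
    induction n with
    | zero => exact fun h => h
    | succ n ih =>
      intro hn
      let i : ℤ := -((n + 1 : ℕ) : ℤ)
      refine ih ((DerivedCategory.isGE_iff _ _).2 fun q hq => ?_)
      rcases lt_or_eq_of_le (show q ≤ i by omega) with hqi | rfl
      · exact (DerivedCategory.isGE_iff Q' i).1 hn q hqi
      by_contra hne
      haveI := (hc i).1
      obtain ⟨P, ⟨eP⟩⟩ := TildeD.qcoh_exists_tilde (R := R) (DCoh.HD Q' i)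
      obtain ⟨g, hg⟩ := exists_socle_hom x₀ P (fun h0 => hne (((tilde.functor R).map_isZero h0).of_iso eP.symm))
        fun y hy => by
          exact ((stkF y).mapIso eP).toLinearEquiv.toEquiv.subsingleton_congr.2 (hsub i y hy)
      obtain ⟨φ, hφ⟩ := exists_hom_ne_zero_of_isGE Q' i hn (SkyHomLib.skyO Y x₀)
        ⟨tS.inv ≫ (tilde.functor R).map g ≫ eP.hom, fun h0 => hg ((tilde.functor R).map_injective (by
          rw [Functor.map_zero, ← cancel_epi tS.inv, ← cancel_mono eP.hom, Category.assoc, comp_zero, zero_comp]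
          exact h0))⟩
      let sh : (DerivedCategory.singleFunctor Y.Modules i).obj (SkyHomLib.skyO Y x₀) ≅
          (DCoh.inD Y (SkyHomLib.skyO Y x₀))⟦-i⟧ :=
        (((DerivedCategory.singleFunctors Y.Modules).shiftIso (-i) i 0 (by omega)).app _).symm
      exact hφ ((cancel_epi sh.inv).1 ((hneg i (by omega) _).trans comp_zero.symm))
  refine (DerivedCategory.isGE_iff _ _).2 fun q hq => isZero_of_stalks fun z => ?_
  by_cases hz : z = j x₀
  · subst hz
    have hs : Subsingleton ((DCoh.HD Q' q).presheaf.stalk x₀) :=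
      subsingleton_stalk_of_isZero ((DerivedCategory.isGE_iff Q' 0).1 hGE q hq) x₀
    exact ((Scheme.Modules.restrictStalkNatIso j x₀).app (DCoh.HD Q q)).addCommGroupIsoToAddEquiv.toEquiv.subsingleton_congr.1
      (((stkF x₀).mapIso (restrictHDIso j Q q)).toLinearEquiv.toEquiv.subsingleton_congr.1 hs)
  · exact not_not.1 fun hs => hz (hsupp q hs)

end Groth.Agent.KosDual
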